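import Mathlib
import Cfsg.Agent.NML.Pu
import Cfsg.Agent.NML.Frm
import Cfsg.Agent.NML.Lift
import Cfsg.Agent.NML.T0f
import Cfsg.Agent.S3100

/-!
# A group with a Sylow 2-subgroup acting faithfully on a section `McL`
-/

set_option autoImplicit false
set_option linter.unusedSectionVars false

namespace Cfsg.Agent.NML

open Cfsg.Agent.Std.W Cfsg.Agent.Loc.Mss Cfsg.Agent.GT Subgroup
open Cfsg.Agent.Gold (O C1 Cbar bar)
open Cfsg.Agent.Inv.Sol (Two Dc hat two_of_sq odd_O two_of_mem)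
open Cfsg.Agent.Wr (ph)

universe u

/-- The 2-group `P` acts faithfully on `L / O(L)` and contains a Sylow 2-subgroup of `L`. -/
structure Hy {G : Type u} [Group G] (L P : Subgroup G) : Prop where
  ty : Ty 8 L
  pg : IsPGroup 2 P
  PN : P ≤ 𝐍[L]
  PC : P ⊓ Cbar L = ⊥
  PL : Syl 2 (P ⊓ L) L

variable {G : Type u} [Group G] [Finite G] {n : ℕ} {K L H P : Subgroup G}

theorem inf_cent_ne {A S : Subgroup G} (hA : IsPGroup 2 A) (hS : IsPGroup 2 S) (hn : S ≤ 𝐍[A]) (h : A ≠ ⊥) :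
    ∃ u ∈ A, u ∈ 𝐂[S] ∧ u ≠ 1 := by
  obtain ⟨n, h1⟩ := PG.exists_iterCommutator_eq_bot_of_isPGroup hA hS hn
  obtain ⟨⟨u, hu⟩, h2⟩ := ne_bot_iff_exists_ne_one.1 (PG.inf_centralizer_ne_bot_of_iterCommutator h1 hn h)
  exact ⟨u, hu.1, hu.2, fun e => h2 (Subtype.ext e)⟩

theorem Hy.map (h : Hy L P) {X : Type u} [Group X] [Finite X] (f : G →* X) (hk : P ⊓ f.ker = ⊥) :
    Hy (L.map f) (P.map f) := by
  have h1 : Odd (Nat.card (f.ker ⊓ L : Subgroup G)) := by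
    have := h.PL.inf (M := f.ker ⊓ L) inf_le_right (norm_inf (norm_normal _ _) (inf_le_left.trans h.PN))
    exact Nat.coprime_two_right.1 (this.eq_bot_iff.1 (eq_bot_iff.2 fun x hx => hk.le ⟨hx.1.1, hx.2.1⟩))
  have h2 : f.ker ⊓ L ≤ O L := le_pPrimeCoreOf inf_le_right (norm_inf (norm_normal _ _) le_normalizer)
    (Nat.coprime_two_right.2 h1)
  refine ⟨h.ty.map f h1, h.pg.map f, map_norm_le f h.PN, eq_bot_iff.2 ?_, ?_⟩
  · rintro _ ⟨⟨p, hp, rfl⟩, hc⟩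
    suffices h3 : p ∈ Cbar L by rw [mem_bot.1 (h.PC.le ⟨hp, h3⟩), map_one]; exact one_mem _
    refine ⟨h.PN hp, fun l hl => ?_⟩
    have h3 := hc.2 _ ⟨l, hl, rfl⟩
    rw [← map_commutatorElement, Gold.O, ← map_pPrimeCoreOf_of_coprime L (Nat.coprime_two_right.2 h1)] at h3
    obtain ⟨o, ho, e⟩ := h3
    refine (mul_mem_cancel_left ((O L).inv_mem ho)).1 (h2 (mem_inf.2 ⟨?_, mul_mem (inv_mem (pPrimeCoreOf_le L ho))
      (mul_mem (conj_mem_of_norm (h.PN hp) hl) (inv_mem hl))⟩))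
    rw [MonoidHom.mem_ker, map_mul, map_inv, e, inv_mul_cancel]
  · have h3 := h.PL.map f
    rwa [h3.eq_of_le (h.pg.map f).to_inf_left (le_inf (map_mono inf_le_left) (map_mono inf_le_right)) inf_le_right]

theorem Hy.sub (h : Hy L P) (hL : L ≤ H) : Hy (L.subgroupOf H) (P.subgroupOf H) := by
  refine ⟨h.ty.of_equiv (subgroupOfEquivOfLe hL).symm, h.pg.comap_subtype, ?_, eq_bot_iff.2 fun x hx => ?_,
    h.PL.subgroupOf hL⟩
  · rw [norm_subgroupOf hL]; exact comap_mono h.PN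
  · refine mem_bot.2 (Subtype.ext (mem_bot.1 (h.PC.le ⟨hx.1, h.PN hx.1, fun l hl => ?_⟩)))
    have := hx.2.2 ⟨l, hL hl⟩ hl
    rwa [Gold.O, pPrimeCoreOf_subgroupOf_of_le hL] at this

theorem Hy.comp (h : Hy L P) (hO : pPrimeCore 2 G = ⊥) (hS : Syl 2 P ⊤) :
    ∃ (m : ℕ) (M : Subgroup G), IsComponent M ∧ Mo m M := by
  have hp := Nat.prime_two
  obtain ⟨f, -⟩ := h.ty.exists_fr le_rfl le_sup_left
  wlog hT : f.T ≤ P generalizing P
  · obtain ⟨g, hg, e⟩ := h.PL.conj_eq (f.syl8 rfl)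
    have h1 := h.map (MulAut.conj g).toMonoidHom (by rw [(MonoidHom.ker_eq_bot_iff _).2 (cj_inj g), inf_bot_eq])
    rw [cj_of_mem hg] at h1
    exact this h1 (hS.cj_mem (mem_top g)) (e.ge.trans (cj_mono g inf_le_left))
  have key : ∀ Y : Subgroup G, Y.IsSubnormal → L ≤ 𝐍[Y] → Y ≠ ⊥ → L ≤ Y := fun Y hY hn h0 => by
    have h1 := hS.inf_subnormal (subnormalIn_top_iff.2 hY)
    obtain ⟨u, hu, hc, u1⟩ := inf_cent_ne h1.pg f.pgT (norm_inf (norm_of_le hT) (f.TK.trans hn)) fun e =>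
      h0 (le_bot_iff.1 (hO ▸ le_pPrimeCore_of_isSubnormal hY (h1.eq_bot_iff.1 e)))
    obtain ⟨p, hp'⟩ := (f.two P h.pg hT h.PN).2 u hu.1 (.inl (cent_le_norm _ (cent_anti f.E_le_T hc)))
    have h2 : u ∈ L := by
      rw [← inv_mul_eq_one.1 (mem_bot.1 (h.PC.le ⟨P.mul_mem (inv_mem (hT (f.ιT p))) hu.1, hp'⟩))]
      exact f.ιK p
    refine ((h.ty.self.le_or_commutator_le_of_le_normalizer hp (H := L ⊓ Y) inf_le_left
      (norm_inf le_normalizer hn)).resolve_right fun e => u1 ?_).trans inf_le_right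
    exact h.ty.eq_one h2 (two_of_mem h.pg hu.1) (Gold.le_Cbar_iff.2
      ⟨norm_of_le inf_le_left, commutator_comm L _ ▸ e⟩ ⟨h2, hu.2⟩)
  have h2 : pCore 2 G = ⊥ := by_contra fun e => h.ty.qs.not_le_of_isSolvable
    (have := (isPGroup_pCore (G := G) 2).isNilpotent; inferInstance)
    (key _ (Normal.isSubnormal inferInstance) (norm_normal _ _) e)
  have h3 : layer G ≠ ⊥ := fun e => by
    have := h.ty.qs.nontrivial
    have : Nontrivial G := L.subtype_injective.nontrivial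
    exact genFitting_ne_bot (G := G) (by rw [genFitting_eq_layer_sup_pCore hp hO, e, h2, bot_sup_eq])
  obtain ⟨M, hM⟩ := layer_ne_bot_iff.1 h3
  have h4 := key M hM.isSubnormal
    ((key _ (Normal.isSubnormal inferInstance) (norm_normal _ _) h3).trans hM.layer_le_normalizer) hM.ne_bot
  have := hM.isQuasisimple.isSimpleGroup (by
    rw [← centralizer_subgroupOf_self, ← inf_subgroupOf_left, le_bot_iff.1
      (hM.inf_centralizer_le_fitting.trans ((fitting_eq_pCore hp hO).trans h2).le), bot_subgroupOf])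
  have h5 := hS.inf_subnormal (subnormalIn_top_iff.2 hM.isSubnormal)
  have h6 : f.T ≤ P ⊓ M := le_inf hT (f.TK.trans h4)
  by_cases hc : P ⊓ M ≤ f.T
  · obtain ⟨s, hs, e⟩ := f.toLx.lift M.subtype (by rw [ker_subtype, card_bot]; exact odd_one)
      (by rw [range_subtype]; exact f.NEK.trans h4) (by rw [range_subtype]; exact f.NFK.trans h4)
    refine ⟨8, M, hM, .inl ⟨rfl, s.ident ?_ ?_⟩⟩
    · have h7 := (le_antisymm hc h6 ▸ h5).subgroupOf le_rfl
      rwa [subgroupOf_self, ← e, Lx.map_T, subgroupOf, comap_map_eq_self_of_injective M.subtype_injective] at h7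
    · rcases h.ty.mo.card with ⟨-, e⟩ | ⟨e, -⟩
      · exact (e ▸ card_quotient_dvd_card (pPrimeCore 2 L)).trans (card_dvd_of_le h4)
      · omega
  · obtain ⟨S, ⟨e⟩⟩ := f.ly _ h5.pg h6 (inf_le_left.trans h.PN)
      (eq_bot_iff.2 fun x hx => h.PC.le ⟨hx.1.1, hx.2⟩) hc
    obtain ⟨S', e', -⟩ := h5.exists_sylow
    exact ⟨11, M, hM, .inr ⟨rfl, S3100.result hM.isQuasisimple.not_isMulCommutative S'
      ⟨S, ⟨((MulEquiv.subgroupCongr e').trans (subgroupOfEquivOfLe inf_le_right)).trans e⟩⟩⟩⟩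

theorem odd_quot (hO : pPrimeCore 2 G = ⊥) (A : Subgroup G) [A.Normal] (hA : IsPGroup 2 A) (hZ : A ≤ 𝐂[⊤]) :
    pPrimeCore 2 (G ⧸ A) = ⊥ := by
  let f := QuotientGroup.mk' A
  let Y := (pPrimeCore 2 (G ⧸ A)).comap f
  have o : ∀ y ∈ pPrimeCore 2 (G ⧸ A), Odd (orderOf y) := fun y hy =>
    Inv.Sol.odd_of_mem (Nat.coprime_two_right.1 (coprime_card_pPrimeCore 2)) hy
  have h1 : Syl 2 A Y := Syl.of_maximal hA ((QuotientGroup.ker_mk' A).ge.trans (ker_le_comap _ _))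
    fun U hU _ h2 x hx => (QuotientGroup.eq_one_iff x).1 ((two_of_mem (hU.map f) ⟨x, hx, rfl⟩).eq_one (o _ (h2 hx)))
  refine eq_bot_iff.2 fun y hy => mem_bot.2 ?_
  obtain ⟨x, rfl⟩ := QuotientGroup.mk'_surjective A y
  obtain ⟨k, hk⟩ := exists_pow_coprime (p := 2) x
  have h2 := odd_mem_O h1 (hZ.trans (cent_anti le_top)) (pow_mem (show x ∈ Y from hy) _) (Nat.coprime_two_right.1 hk)
  have h3 := mem_bot.1 (hO ▸ pPrimeCoreOf_le_pPrimeCore Y h2)
  exact Two.eq_one ⟨k, by rw [← map_pow, h3, map_one]⟩ (o _ hy)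

theorem Hy.comp' {A : Subgroup G} (h : Hy L P) (hO : pPrimeCore 2 G = ⊥) (hA : A ≤ 𝐂[⊤]) (hS : Syl 2 (P ⊔ A) ⊤)
    (hd : P ⊓ A = ⊥) : ∃ (m : ℕ) (M : Subgroup G), IsComponent M ∧ Ty m M := by
  have : A.Normal := normal_of_top (norm_of_cent (cent_comm hA))
  let f := QuotientGroup.mk' A
  have hf := QuotientGroup.mk'_surjective A
  have h1 := hS.map f
  rw [Subgroup.map_sup, (Subgroup.map_eq_bot_iff A).2 (QuotientGroup.ker_mk' A).ge, sup_bot_eq,
    map_top_of_surjective _ hf] at h1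
  obtain ⟨m, M, hM, hm⟩ := (h.map f ((QuotientGroup.ker_mk' A).symm ▸ hd)).comp
    (odd_quot hO A (hS.pg.to_le le_sup_right) hA) h1
  obtain ⟨h2, h3⟩ := hM.exists_lift hf ((QuotientGroup.ker_mk' A).le.trans (hA.trans (cent_anti le_top)))
  generalize ⁅M.comap f, M.comap f⁆ = M' at h2 h3
  subst h3
  have h4 : (f.subgroupMap M').ker ≤ center M' := fun x hx => mem_center_iff.2 fun y => Subtype.ext
    (mem_cent.1 (hA ((QuotientGroup.eq_one_iff _).1 (congrArg Subtype.val (MonoidHom.mem_ker.1 hx)))) y trivial)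
  have h5 := hm.odd_center h2.isQuasisimple _ (f.subgroupMap_surjective M') h4
  have h6 : pPrimeCore 2 M' = ⊥ := pPrimeCoreOf_eq_bot_iff.1 (le_bot_iff.1
    (hO ▸ (pPrimeCoreOf_eq_inf_of_isSubnormal h2.isSubnormal).le.trans inf_le_left))
  have h7 : Function.Injective (f.subgroupMap M') := (injective_iff_map_eq_one _).2 fun a ha =>
    (Inv.Sol.two_of_center h6 (h4 ha)).eq_one (Inv.Sol.odd_of_mem h5 (h4 ha))
  have h8 := hm.of_equiv (MulEquiv.ofBijective _ ⟨h7, f.subgroupMap_surjective M'⟩).symm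
  refine ⟨m, M', h2, h2.isQuasisimple.isPQuasisimple Nat.prime_two ?_,
    h8.of_equiv ((QuotientGroup.quotientMulEquivOfEq h6).trans QuotientGroup.quotientBot).symm⟩
  rcases h8.card with ⟨-, e⟩ | ⟨-, e⟩ <;> rw [e] <;> norm_num

theorem mn {A P : Subgroup G} (ty : Ty 8 L) (LH : L ≤ H) (hA : A ≤ 𝐂[H]) (hS : Syl 2 (P ⊔ A) H)
    (hd : P ⊓ A = ⊥) (PN : P ≤ 𝐍[L]) (PC : P ⊓ Cbar L = ⊥) (PL : Syl 2 (P ⊓ L) L) :
    ∃ (m : ℕ) (K : Subgroup G), IsPComponentOf 2 K H ∧ Ty m K := by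
  have PH : P ≤ H := le_sup_left.trans hS.le
  have AH : A ≤ H := le_sup_right.trans hS.le
  let f := QuotientGroup.mk' (pPrimeCore 2 H)
  have k : ∀ x : H, (x : G) ∈ P ⊔ A → f x = 1 → x = 1 := fun x hx e =>
    Subtype.ext ((two_of_mem hS.pg hx).eq_one (odd_O ((Inv.Sol.mk_eq_one x).1 e)))
  have h1 := ((Hy.mk ty (hS.pg.to_le le_sup_left) PN PC PL).sub LH).map f (eq_bot_iff.2 fun x hx =>
    k x (mem_sup_left hx.1) hx.2)
  have h2 := (hS.subgroupOf le_rfl).map f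
  rw [subgroupOf_self, map_top_of_surjective _ (QuotientGroup.mk'_surjective _), subgroupOf_sup PH AH,
    Subgroup.map_sup] at h2
  obtain ⟨m, M, hM, hm⟩ := h1.comp' (A := bar H A) pPrimeCore_quotient_pPrimeCore (by
    rintro _ ⟨a, ha, rfl⟩ y -
    obtain ⟨y, rfl⟩ := QuotientGroup.mk'_surjective _ y
    rw [← map_mul, ← map_mul, show y * a = a * y from Subtype.ext (mem_cent.1 (hA ha) y y.2)]) h2 (eq_bot_iff.2 (by
    rintro _ ⟨⟨p, hp, rfl⟩, a, ha, e⟩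
    have h3 := k (a⁻¹ * p) (mul_mem (mem_sup_right (inv_mem ha)) (mem_sup_left hp)) (by
      rw [map_mul, map_inv, e, inv_mul_cancel])
    rw [inv_mul_eq_one] at h3
    rw [show p = 1 from Subtype.ext (mem_bot.1 (hd.le ⟨hp, h3 ▸ ha⟩)), map_one]
    exact one_mem _))
  obtain ⟨K, hK, rfl⟩ := Gold.exists_bar_eq hM
  exact ⟨m, K, hK, hm.of_bar (hK.isPQuasisimple Nat.prime_two) hK.le⟩

end Cfsg.Agent.NML
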